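import Mathlib.AlgebraicGeometry.Morphisms.Flat
import Mathlib.AlgebraicGeometry.Morphisms.QuasiCompact
import Mathlib.CategoryTheory.Monoidal.Cartesian.Over
import Mathlib.LinearAlgebra.TensorProduct.Basis
import Mathlib.RingTheory.TensorProduct.Maps

/-! # Sections of a product with an affine scheme over a field, without quasi-separatedness -/

set_option autoImplicit false
set_option linter.style.haveILetI false
set_option backward.isDefEq.respectTransparency.types false
universe u

open CategoryTheory Limits MonoidalCategory CartesianMonoidalCategory AlgebraicGeometry TensorProduct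

noncomputable section

namespace Groth.Agent.HomSch19

variable {k : Type u} [Field k] (X S : Over (Spec (CommRingCat.of k)))

/-- The algebra structure on sections. -/
@[implicit_reducible]
def algW (W : X.left.Opens) : Algebra k Γ(X.left, W) :=
  ((Scheme.ΓSpecIso (CommRingCat.of k)).inv ≫ X.hom.appLE ⊤ W le_top).hom.toAlgebra

attribute [local instance] algW

lemma algebraMap_apply (W : X.left.Opens) (c : k) :
    algebraMap k Γ(X.left, W) c = X.hom.appLE ⊤ W le_top ((Scheme.ΓSpecIso (CommRingCat.of k)).inv c) := rfl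

lemma map_commutes {Y : Over (Spec (CommRingCat.of k))} (f : Y ⟶ X) (W : X.left.Opens) (V : Y.left.Opens)
    (e : V ≤ f.left ⁻¹ᵁ W) (c : k) :
    f.left.appLE W V e (algebraMap k Γ(X.left, W) c) = algebraMap k Γ(Y.left, V) c := by
  rw [algebraMap_apply, algebraMap_apply, ← CommRingCat.comp_apply, Scheme.Hom.appLE_comp_appLE]
  simp only [Over.w f]

/-- Pullback of sections as an algebra map. -/
def pullA {Y : Over (Spec (CommRingCat.of k))} (f : Y ⟶ X) (W : X.left.Opens) (V : Y.left.Opens)
    (e : V ≤ f.left ⁻¹ᵁ W) : Γ(X.left, W) →ₐ[k] Γ(Y.left, V) :=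
  { (f.left.appLE W V e).hom with commutes' := map_commutes X f W V e }

lemma pullA_apply {Y : Over (Spec (CommRingCat.of k))} (f : Y ⟶ X) (W : X.left.Opens) (V : Y.left.Opens)
    (e : V ≤ f.left ⁻¹ᵁ W) (x) : pullA X f W V e x = f.left.appLE W V e x := rfl

/-- The comparison map `Γ(X, W) ⊗ Γ(S) → Γ(X × S, W × S)`. -/
def theta (W : X.left.Opens) :
    Γ(X.left, W) ⊗[k] Γ(S.left, ⊤) →ₐ[k] Γ((X ⊗ S).left, (fst X S).left ⁻¹ᵁ W) :=
  Algebra.TensorProduct.productMap (pullA X (fst X S) W _ le_rfl) (pullA S (snd X S) ⊤ _ le_top)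

lemma theta_tmul (W : X.left.Opens) (x : Γ(X.left, W)) (s : Γ(S.left, ⊤)) :
    theta X S W (x ⊗ₜ s) = (fst X S).left.appLE W _ le_rfl x * (snd X S).left.appLE ⊤ _ le_top s := rfl

/-- Restriction of sections as an algebra map. -/
def resA {W W' : X.left.Opens} (h : W' ≤ W) : Γ(X.left, W) →ₐ[k] Γ(X.left, W') :=
  { (X.left.presheaf.map (homOfLE h).op).hom with
    commutes' := fun c => by
      show X.left.presheaf.map _ (algebraMap k _ c) = _
      rw [algebraMap_apply, algebraMap_apply, ← CommRingCat.comp_apply, Scheme.Hom.appLE_map] }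

lemma theta_res {W W' : X.left.Opens} (h : W' ≤ W) (z : Γ(X.left, W) ⊗[k] Γ(S.left, ⊤)) :
    (X ⊗ S).left.presheaf.map (homOfLE ((fst X S).left.preimage_mono h)).op (theta X S W z) =
      theta X S W' (Algebra.TensorProduct.map (resA X h) (AlgHom.id k _) z) := by
  induction z using TensorProduct.induction_on with
  | zero => simp only [map_zero]
  | tmul x s =>
    rw [Algebra.TensorProduct.map_tmul, theta_tmul, theta_tmul, map_mul, AlgHom.id_apply]
    simp only [resA, AlgHom.coe_mk, ← CommRingCat.comp_apply, Scheme.Hom.appLE_map]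
    congr 1
    · show _ = (fst X S).left.appLE W' _ le_rfl (X.left.presheaf.map _ x)
      rw [← CommRingCat.comp_apply, Scheme.Hom.map_appLE]
  | add x y hx hy => simp only [map_add, hx, hy]

lemma theta_bijective_of_affine [IsAffine S.left] {W : X.left.Opens} (hW : IsAffineOpen W) :
    Function.Bijective (theta X S W) := by
  have H : IsPullback (fst X S).left (snd X S).left X.hom S.hom := IsPullback.of_hasPullback X.hom S.hom
  have hUY : (fst X S).left ⁻¹ᵁ W = (fst X S).left ⁻¹ᵁ W ⊓ (snd X S).left ⁻¹ᵁ ⊤ := (inf_top_eq _).symm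
  haveI := isIso_pushoutSection_of_isAffineOpen H (le_top : ⊤ ≤ S.hom ⁻¹ᵁ ⊤) (le_top : W ≤ X.hom ⁻¹ᵁ ⊤)
    hUY (isAffineOpen_top _) (isAffineOpen_top _) hW
  have hp := (isIso_pushoutSection_iff H (le_top : ⊤ ≤ S.hom ⁻¹ᵁ ⊤) (le_top : W ≤ X.hom ⁻¹ᵁ ⊤) hUY).1 this
  have hp' : IsPushout (CommRingCat.ofHom (algebraMap k Γ(X.left, W)))
      (CommRingCat.ofHom (algebraMap k Γ(S.left, ⊤)))
      ((fst X S).left.appLE W ((fst X S).left ⁻¹ᵁ W) le_rfl)
      ((snd X S).left.appLE ⊤ ((fst X S).left ⁻¹ᵁ W) le_top) := by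
    refine IsPushout.of_iso hp (Scheme.ΓSpecIso (CommRingCat.of k)) (Iso.refl _) (Iso.refl _) (Iso.refl _)
      ?_ ?_ (by simp) (by simp)
    · simp only [Iso.refl_hom, Category.comp_id]
      rw [← Iso.inv_comp_eq]; rfl
    · simp only [Iso.refl_hom, Category.comp_id]
      rw [← Iso.inv_comp_eq]; rfl
  have ht := CommRingCat.isPushout_tensorProduct k Γ(X.left, W) Γ(S.left, ⊤)
  let e := ht.isoIsPushout _ _ hp'
  have he : ∀ z, theta X S W z = e.hom z := by
    intro z
    induction z using TensorProduct.induction_on with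
    | zero => rw [map_zero]; exact (map_zero e.hom.hom).symm
    | tmul x s =>
      rw [theta_tmul]
      have h1 := congrArg (fun m => m.hom x) (IsPushout.inl_isoIsPushout_hom (h := ht) (h' := hp'))
      have h2 := congrArg (fun m => m.hom s) (IsPushout.inr_isoIsPushout_hom (h := ht) (h' := hp'))
      rw [show x ⊗ₜ[k] s = (x ⊗ₜ[k] (1 : Γ(S.left, ⊤))) * ((1 : Γ(X.left, W)) ⊗ₜ[k] s) by simp, map_mul]
      exact (congrArg₂ (· * ·) h1 h2).symm
    | add x y hx hy => simp only [map_add, hx, hy]
  rw [show ⇑(theta X S W) = ⇑e.hom from funext he]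
  exact ConcreteCategory.bijective_of_isIso e.hom

/-- Coordinates of a tensor in a basis. -/
abbrev coordB : ∀ (W : X.left.Opens), Γ(X.left, W) ⊗[k] Γ(S.left, ⊤) ≃ₗ[k]
    (Module.Free.ChooseBasisIndex k Γ(S.left, ⊤) →₀ Γ(X.left, W)) := fun _ =>
  TensorProduct.equivFinsuppOfBasisRight (Module.Free.chooseBasis k Γ(S.left, ⊤))

lemma coordB_res {W W' : X.left.Opens} (h : W' ≤ W) (z : Γ(X.left, W) ⊗[k] Γ(S.left, ⊤))
    (l : Module.Free.ChooseBasisIndex k Γ(S.left, ⊤)) :
    coordB X S W' (Algebra.TensorProduct.map (resA X h) (AlgHom.id k _) z) l =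
      resA X h (coordB X S W z l) := by
  induction z using TensorProduct.induction_on with
  | zero => simp
  | tmul x s => simp [coordB, TensorProduct.equivFinsuppOfBasisRight_apply_tmul_apply]
  | add x y hx hy => simp only [map_add, Finsupp.add_apply, hx, hy]

lemma theta_injective [IsAffine S.left] (W : X.left.Opens) : Function.Injective (theta X S W) := by
  rw [injective_iff_map_eq_zero]
  intro z hz
  apply (coordB X S W).injective
  rw [map_zero]
  ext l
  refine X.left.IsSheaf.section_ext fun x hx => ?_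
  obtain ⟨U, hU, hxU, hUW⟩ := exists_isAffineOpen_mem_and_subset (X := X.left) (x := x) (U := W) hx
  refine ⟨U, hUW, hxU, ?_⟩
  have h0 : Algebra.TensorProduct.map (resA X hUW) (AlgHom.id k _) z = 0 := by
    apply (theta_bijective_of_affine X S hU).1
    rw [← theta_res X S hUW, hz, map_zero, map_zero]
  show resA X hUW (coordB X S W z l) = resA X hUW 0
  rw [← coordB_res, h0, map_zero, map_zero, Finsupp.zero_apply]

/-- Over a field sections on the product with an affine scheme are the tensor product. -/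
theorem theta_bijective [IsAffine S.left] [CompactSpace X.left] : Function.Bijective (theta X S ⊤) := by
  classical
  refine ⟨theta_injective X S ⊤, fun s => ?_⟩
  obtain ⟨I, hI, e⟩ := isCompact_iff_finite_and_eq_biUnion_affineOpens.mp
    (show IsCompact (X := X.left) (⊤ : X.left.Opens) from CompactSpace.isCompact_univ)
  have := hI.to_subtype
  cases nonempty_fintype I
  choose z hz using fun i : I => (theta_bijective_of_affine X S i.1.2).2
    ((X ⊗ S).left.presheaf.map (homOfLE ((fst X S).left.preimage_mono le_top)).op s)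
  have hag : ∀ i j : I, Algebra.TensorProduct.map (resA X (inf_le_left : i.1.1 ⊓ j.1.1 ≤ _)) (AlgHom.id k _) (z i) =
      Algebra.TensorProduct.map (resA X (inf_le_right : i.1.1 ⊓ j.1.1 ≤ _)) (AlgHom.id k _) (z j) := by
    intro i j
    apply theta_injective X S
    rw [← theta_res, ← theta_res, hz, hz, ← CommRingCat.comp_apply, ← CommRingCat.comp_apply,
      ← Functor.map_comp, ← Functor.map_comp]
    rfl
  have hcov : (⊤ : X.left.Opens) ≤ ⨆ i : I, i.1.1 := fun x hx => by
    rw [e] at hx
    simpa [TopologicalSpace.Opens.mem_iSup, and_comm] using hx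
  let T := Finset.univ.biUnion fun i : I => (coordB X S i.1.1 (z i)).support
  choose a ha using fun l => X.left.sheaf.existsUnique_gluing' (fun i : I => i.1.1) ⊤
    (fun i => homOfLE le_top) hcov (fun i => coordB X S i.1.1 (z i) l) (fun i j => by
      show resA X (inf_le_left : i.1.1 ⊓ j.1.1 ≤ _) (coordB X S i.1.1 (z i) l) =
        resA X (inf_le_right : i.1.1 ⊓ j.1.1 ≤ _) (coordB X S j.1.1 (z j) l)
      rw [← coordB_res, ← coordB_res, hag])
  have ha' : ∀ l, l ∉ T → a l = 0 := fun l hl => by
    refine X.left.sheaf.eq_of_locally_eq' (fun i : I => i.1.1) ⊤ (fun i => homOfLE le_top) hcov _ _ fun i => ?_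
    rw [map_zero]
    refine ((ha l).1 i).trans (Finsupp.notMem_support_iff.1 fun h => hl ?_)
    exact Finset.mem_biUnion.2 ⟨i, Finset.mem_univ _, h⟩
  let w : Module.Free.ChooseBasisIndex k Γ(S.left, ⊤) →₀ Γ(X.left, ⊤) :=
    Finsupp.onFinset T a fun l hl => by_contra fun h => hl (ha' l h)
  refine ⟨(coordB X S ⊤).symm w, ?_⟩
  refine (X ⊗ S).left.IsSheaf.section_ext fun y hy => ?_
  obtain ⟨i, hi⟩ := TopologicalSpace.Opens.mem_iSup.1 (hcov (show (fst X S).left y ∈ ⊤ from trivial))
  refine ⟨(fst X S).left ⁻¹ᵁ i.1.1, (fst X S).left.preimage_mono le_top, hi, ?_⟩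
  rw [theta_res X S (le_top : i.1.1 ≤ ⊤), ← hz i]
  congr 1
  apply (coordB X S i.1.1).injective
  ext l
  rw [coordB_res, LinearEquiv.apply_symm_apply]
  exact (ha l).1 i

end Groth.Agent.HomSch19
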