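import Groth.Agent.Lib.HomSch19.Sections
import Groth.Agent.Lib.WeilRes21.Ring
import Groth.Agent.Lib.GITQuot.Orbit
import Mathlib.AlgebraicGeometry.Morphisms.FiniteType
import Mathlib.AlgebraicGeometry.Cover.Open
import Mathlib.AlgebraicGeometry.Gluing
import Mathlib.AlgebraicGeometry.AffineScheme

/-! # The scheme of maps from a compact scheme with finite global sections to an affine scheme -/

set_option autoImplicit false
set_option linter.style.haveILetI false
set_option backward.isDefEq.respectTransparency.types false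
universe u

open CategoryTheory Limits MonoidalCategory CartesianMonoidalCategory AlgebraicGeometry TensorProduct

noncomputable section

namespace Groth.Agent.HomSch19

attribute [local instance] algW

variable {k : Type u} [Field k]

/-- The action of a morphism on global functions. -/
abbrev toAlg {Y Z : Over (Spec (CommRingCat.of k))} (f : Y ⟶ Z) : Γ(Z.left, ⊤) →ₐ[k] Γ(Y.left, ⊤) :=
  pullA Z f ⊤ ⊤ le_top

lemma toAlg_apply {Y Z : Over (Spec (CommRingCat.of k))} (f : Y ⟶ Z) (a : Γ(Z.left, ⊤)) :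
    toAlg f a = f.left.appTop a := by
  rw [pullA_apply, Scheme.Hom.appTop, Scheme.Hom.app_eq_appLE]
  rfl

lemma toAlg_comp {W Y Z : Over (Spec (CommRingCat.of k))} (g : W ⟶ Y) (f : Y ⟶ Z) :
    toAlg (g ≫ f) = (toAlg g).comp (toAlg f) :=
  AlgHom.ext fun a => by
    rw [AlgHom.comp_apply, toAlg_apply, toAlg_apply, toAlg_apply, Over.comp_left, Scheme.Hom.comp_appTop]
    rfl

lemma toAlg_injective {Y Z : Over (Spec (CommRingCat.of k))} [IsAffine Z.left] :
    Function.Injective (toAlg : (Y ⟶ Z) → _) := fun f g h => Over.OverMorphism.ext (ext_of_isAffine (by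
  ext a
  rw [← toAlg_apply, ← toAlg_apply, h]))

lemma toAlg_surjective {Y Z : Over (Spec (CommRingCat.of k))} [IsAffine Z.left]
    (φ : Γ(Z.left, ⊤) →ₐ[k] Γ(Y.left, ⊤)) : ∃ f : Y ⟶ Z, toAlg f = φ := by
  let f : Y.left ⟶ Z.left := Y.left.toSpecΓ ≫ Spec.map (CommRingCat.ofHom φ.toRingHom) ≫ Z.left.isoSpec.inv
  have hf : f.appTop = CommRingCat.ofHom φ.toRingHom := by
    have h := congrArg Scheme.Hom.appTop (Scheme.toSpecΓ_isoSpec_inv Z.left)
    rw [Scheme.Hom.comp_appTop, Scheme.toSpecΓ_appTop, Scheme.Hom.id_appTop] at h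
    simp only [f, Scheme.Hom.comp_appTop, Category.assoc]
    rw [Scheme.toSpecΓ_appTop, Scheme.ΓSpecIso_naturality, ← Category.assoc]
    exact (congrArg (· ≫ _) h).trans (Category.id_comp _)
  refine ⟨Over.homMk f (ext_of_isAffine ?_), AlgHom.ext fun a => ?_⟩
  · rw [← cancel_epi (Scheme.ΓSpecIso (CommRingCat.of k)).inv]
    ext c
    simp only [Scheme.Hom.comp_appTop, hf, CommRingCat.comp_apply]
    have h := φ.commutes c
    rw [algebraMap_apply, algebraMap_apply] at h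
    simpa [Scheme.Hom.appTop, Scheme.Hom.app_eq_appLE] using h
  · rw [toAlg_apply]
    exact congr($hf a)

/-- An algebra is the algebra of functions on its spectrum. -/
def specAlgEquiv (k : Type u) [Field k] (C : Type u) [CommRing C] [Algebra k C] :
    C ≃ₐ[k] Γ((Over.mk (Spec.map (CommRingCat.ofHom (algebraMap k C))) : Over (Spec (CommRingCat.of k))).left, ⊤) :=
  AlgEquiv.ofRingEquiv (f := (Scheme.ΓSpecIso (CommRingCat.of C)).symm.commRingCatIsoToRingEquiv) fun c => by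
    rw [algebraMap_apply]
    have h := congrArg (fun m => m.hom c) (Scheme.ΓSpecIso_inv_naturality (CommRingCat.ofHom (algebraMap k C)))
    rw [Scheme.Hom.appTop, Scheme.Hom.app_eq_appLE] at h
    exact h

lemma pullA_pullA {W Y Z : Over (Spec (CommRingCat.of k))} (g : W ⟶ Y) (f : Y ⟶ Z) (O : Z.left.Opens)
    (V : Y.left.Opens) (U : W.left.Opens) (e : V ≤ f.left ⁻¹ᵁ O) (e' : U ≤ g.left ⁻¹ᵁ V) (x : Γ(Z.left, O)) :
    pullA Y g V U e' (pullA Z f O V e x) =
      pullA Z (g ≫ f) O U (fun z hz => e (e' hz)) x := by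
  rw [pullA_apply, pullA_apply, pullA_apply, ← CommRingCat.comp_apply, Scheme.Hom.appLE_comp_appLE]
  rfl

lemma pullA_congr {Y Z : Over (Spec (CommRingCat.of k))} {f f' : Y ⟶ Z} (h : f = f') (O : Z.left.Opens)
    (U : Y.left.Opens) (e : U ≤ f.left ⁻¹ᵁ O) (x : Γ(Z.left, O)) :
    pullA Z f O U e x = pullA Z f' O U (h ▸ e) x := by subst h; rfl

variable (X Z : Over (Spec (CommRingCat.of k))) [IsAffine Z.left] [CompactSpace X.left]
  [Module.Finite k Γ(X.left, ⊤)]

/-- The algebra of the scheme of maps. -/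
abbrev R : Type u := WeilRes21.Ring k Γ(X.left, ⊤) (Γ(X.left, ⊤) ⊗[k] Γ(Z.left, ⊤))

/-- The scheme of maps. -/
def M : Over (Spec (CommRingCat.of k)) := Over.mk (Spec.map (CommRingCat.ofHom (algebraMap k (R X Z))))

instance : IsAffine (M X Z).left := inferInstanceAs (IsAffine (Spec _))

/-- Functions on the scheme of maps. -/
def rM : R X Z ≃ₐ[k] Γ((M X Z).left, ⊤) := specAlgEquiv k (R X Z)

/-- The universal element. -/
def uT : Γ(Z.left, ⊤) →ₐ[k] Γ(X.left, ⊤) ⊗[k] Γ((M X Z).left, ⊤) :=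
  (Algebra.TensorProduct.map (AlgHom.id k Γ(X.left, ⊤)) (rM X Z).toAlgHom).comp <|
    ((WeilRes21.univ k Γ(X.left, ⊤) _).restrictScalars k).comp Algebra.TensorProduct.includeRight

/-- Evaluation. -/
def ev : X ⊗ M X Z ⟶ Z := (toAlg_surjective ((theta X (M X Z) ⊤).comp (uT X Z))).choose

lemma toAlg_ev : toAlg (ev X Z) = (theta X (M X Z) ⊤).comp (uT X Z) :=
  (toAlg_surjective ((theta X (M X Z) ⊤).comp (uT X Z))).choose_spec

lemma toAlg_whiskerLeft {S S' : Over (Spec (CommRingCat.of k))} (g : S ⟶ S') :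
    (toAlg (X ◁ g)).comp (theta X S' ⊤) =
      (theta X S ⊤).comp (Algebra.TensorProduct.map (AlgHom.id k _) (toAlg g)) := by
  refine Algebra.TensorProduct.ext' fun x s => ?_
  show pullA _ (X ◁ g) _ _ _ (pullA X (fst X S') ⊤ _ le_rfl x * pullA S' (snd X S') ⊤ _ le_top s) =
    pullA X (fst X S) ⊤ _ le_rfl x * pullA S (snd X S) ⊤ _ le_top (pullA S' g ⊤ ⊤ le_top s)
  rw [map_mul]
  exact congrArg₂ (· * ·) ((pullA_pullA _ _ _ _ _ _ _ x).trans (pullA_congr (whiskerLeft_fst X g) _ _ _ x))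
    ((pullA_pullA _ _ _ _ _ _ _ s).trans ((pullA_congr (whiskerLeft_snd X g) _ _ _ s).trans
      (pullA_pullA _ _ _ _ _ _ _ s).symm))

omit [IsAffine Z.left] in
lemma exists_unique_alg (C : Type u) [CommRing C] [Algebra k C]
    (φ : Γ(Z.left, ⊤) →ₐ[k] Γ(X.left, ⊤) ⊗[k] C) :
    ∃! ψ : R X Z →ₐ[k] C, ∀ a, WeilRes21.bcMap k Γ(X.left, ⊤) ψ
      (WeilRes21.univ k Γ(X.left, ⊤) _ (1 ⊗ₜ a)) = φ a := by
  let Φ : Γ(X.left, ⊤) ⊗[k] Γ(Z.left, ⊤) →ₐ[Γ(X.left, ⊤)] Γ(X.left, ⊤) ⊗[k] C :=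
    Algebra.TensorProduct.lift (Algebra.ofId _ _) φ (fun x y => Commute.all _ _)
  refine ⟨(WeilRes21.homEquiv k _ _).symm Φ, fun a => ?_, fun ψ hψ => ?_⟩
  · show WeilRes21.homEquiv k _ _ ((WeilRes21.homEquiv k _ _).symm Φ) (1 ⊗ₜ a) = φ a
    rw [Equiv.apply_symm_apply]
    simp [Φ, ← Algebra.TensorProduct.one_def]
  · rw [Equiv.eq_symm_apply]
    refine Algebra.TensorProduct.ext (AlgHom.ext fun x => ?_) (AlgHom.ext fun a => ?_)
    · exact ((WeilRes21.homEquiv k Γ(X.left, ⊤) _ ψ).commutes x).trans (Φ.commutes x).symm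
    · simpa [Φ, WeilRes21.homEquiv_apply] using hψ a

lemma existsUnique_uT (C : Type u) [CommRing C] [Algebra k C]
    (φ : Γ(Z.left, ⊤) →ₐ[k] Γ(X.left, ⊤) ⊗[k] C) :
    ∃! χ : Γ((M X Z).left, ⊤) →ₐ[k] C,
      (Algebra.TensorProduct.map (AlgHom.id k Γ(X.left, ⊤)) χ).comp (uT X Z) = φ := by
  have key : ∀ (χ : Γ((M X Z).left, ⊤) →ₐ[k] C) (a : Γ(Z.left, ⊤)),
      (Algebra.TensorProduct.map (AlgHom.id k Γ(X.left, ⊤)) χ).comp (uT X Z) a =
        WeilRes21.bcMap k Γ(X.left, ⊤) (χ.comp (rM X Z).toAlgHom)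
          (WeilRes21.univ k Γ(X.left, ⊤) _ (1 ⊗ₜ a)) := by
    intro χ a
    generalize hz : WeilRes21.univ k Γ(X.left, ⊤) _ ((1 : Γ(X.left, ⊤)) ⊗ₜ[k] a) = z
    have hu : uT X Z a = Algebra.TensorProduct.map (AlgHom.id k Γ(X.left, ⊤)) (rM X Z).toAlgHom z := by
      rw [← hz]; rfl
    rw [AlgHom.comp_apply, hu]
    clear hz hu
    induction z using TensorProduct.induction_on with
    | zero => simp only [map_zero]
    | tmul x r => rfl
    | add x y hx hy => simp only [map_add, hx, hy]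
  obtain ⟨ψ, hψ, huniq⟩ := exists_unique_alg X Z C φ
  have hc : (ψ.comp (rM X Z).symm.toAlgHom).comp (rM X Z).toAlgHom = ψ :=
    AlgHom.ext fun r => congrArg ψ ((rM X Z).symm_apply_apply r)
  refine ⟨ψ.comp (rM X Z).symm.toAlgHom, AlgHom.ext fun a => ?_, fun χ hχ => ?_⟩
  · rw [key, hc]
    exact hψ a
  · rw [← huniq (χ.comp (rM X Z).toAlgHom) fun a => by rw [← key, hχ]]
    exact AlgHom.ext fun r => (congrArg χ ((rM X Z).apply_symm_apply r)).symm

lemma existsUnique_of_universal {M₀ : Over (Spec (CommRingCat.of k))} [IsAffine M₀.left]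
    (u : Γ(Z.left, ⊤) →ₐ[k] Γ(X.left, ⊤) ⊗[k] Γ(M₀.left, ⊤)) (e : X ⊗ M₀ ⟶ Z)
    (he : toAlg e = (theta X M₀ ⊤).comp u)
    (S : Over (Spec (CommRingCat.of k))) [IsAffine S.left]
    (hu : ∀ φ : Γ(Z.left, ⊤) →ₐ[k] Γ(X.left, ⊤) ⊗[k] Γ(S.left, ⊤), ∃! χ : Γ(M₀.left, ⊤) →ₐ[k] Γ(S.left, ⊤),
      (Algebra.TensorProduct.map (AlgHom.id k Γ(X.left, ⊤)) χ).comp u = φ)
    (f : X ⊗ S ⟶ Z) : ∃! g : S ⟶ M₀, (X ◁ g) ≫ e = f := by
  let E := AlgEquiv.ofBijective (theta X S ⊤) (theta_bijective X S)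
  obtain ⟨χ, hχ, huniq⟩ := hu (E.symm.toAlgHom.comp (toAlg f))
  have hv : ∀ g : S ⟶ M₀, toAlg ((X ◁ g) ≫ e) =
      E.toAlgHom.comp ((Algebra.TensorProduct.map (AlgHom.id k Γ(X.left, ⊤)) (toAlg g)).comp u) := by
    intro g
    rw [toAlg_comp, he]
    exact (congrArg (fun m => AlgHom.comp m u) (toAlg_whiskerLeft X g)).trans rfl
  have hE : E.toAlgHom.comp (E.symm.toAlgHom.comp (toAlg f)) = toAlg f :=
    AlgHom.ext fun a => E.apply_symm_apply _
  obtain ⟨g, hg⟩ := toAlg_surjective χ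
  refine ⟨g, toAlg_injective ?_, fun g' h' => toAlg_injective ((huniq _ ?_).trans hg.symm)⟩
  · rw [hv, hg, hχ, hE]
  · rw [← h', hv]
    exact AlgHom.ext fun a => (E.symm_apply_apply _).symm

lemma existsUnique_of_affine (S : Over (Spec (CommRingCat.of k))) [IsAffine S.left] (f : X ⊗ S ⟶ Z) :
    ∃! g : S ⟶ M X Z, (X ◁ g) ≫ ev X Z = f :=
  existsUnique_of_universal X Z (uT X Z) (ev X Z) (toAlg_ev X Z) S (existsUnique_uT X Z _) f

theorem existsUnique (S : Over (Spec (CommRingCat.of k))) (f : X ⊗ S ⟶ Z) :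
    ∃! g : S ⟶ M X Z, (X ◁ g) ≫ ev X Z = f := by
  let 𝒰 := S.left.affineCover
  let U : 𝒰.I₀ → Over (Spec (CommRingCat.of k)) := fun i => Over.mk (𝒰.f i ≫ S.hom)
  let j : ∀ i, U i ⟶ S := fun i => Over.homMk (𝒰.f i) rfl
  haveI : ∀ i, IsAffine (U i).left := fun i => inferInstanceAs (IsAffine (Spec _))
  have huniq : ∀ (T : Over (Spec (CommRingCat.of k))) (g g' : T ⟶ M X Z),
      (X ◁ g) ≫ ev X Z = (X ◁ g') ≫ ev X Z → g = g' := by
    intro T g g' h
    apply Over.OverMorphism.ext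
    refine T.left.affineCover.hom_ext _ _ fun i => ?_
    let W : Over (Spec (CommRingCat.of k)) := Over.mk (T.left.affineCover.f i ≫ T.hom)
    haveI : IsAffine W.left := inferInstanceAs (IsAffine (Spec _))
    let w : W ⟶ T := Over.homMk (T.left.affineCover.f i) rfl
    have h2 := (existsUnique_of_affine X Z W ((X ◁ (w ≫ g)) ≫ ev X Z)).unique rfl
      (show (X ◁ (w ≫ g')) ≫ ev X Z = _ by
        rw [MonoidalCategory.whiskerLeft_comp, MonoidalCategory.whiskerLeft_comp, Category.assoc,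
          Category.assoc, h])
    exact congrArg CommaMorphism.left h2
  choose g hg _ using fun i => existsUnique_of_affine X Z (U i) ((X ◁ j i) ≫ f)
  have hglue : ∀ i l, pullback.fst (𝒰.f i) (𝒰.f l) ≫ (g i).left = pullback.snd (𝒰.f i) (𝒰.f l) ≫ (g l).left := by
    intro i l
    let W : Over (Spec (CommRingCat.of k)) := Over.mk (pullback.fst (𝒰.f i) (𝒰.f l) ≫ (U i).hom)
    let a : W ⟶ U i := Over.homMk (pullback.fst _ _) rfl
    let b : W ⟶ U l := Over.homMk (pullback.snd _ _) (pullback.condition_assoc _).symm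
    have hab : a ≫ j i = b ≫ j l := Over.OverMorphism.ext pullback.condition
    exact congrArg CommaMorphism.left (huniq W (a ≫ g i) (b ≫ g l) (by
      rw [MonoidalCategory.whiskerLeft_comp, MonoidalCategory.whiskerLeft_comp, Category.assoc,
        Category.assoc, hg, hg, ← MonoidalCategory.whiskerLeft_comp_assoc,
        ← MonoidalCategory.whiskerLeft_comp_assoc, hab]))
  let G : S.left ⟶ (M X Z).left := 𝒰.glueMorphisms (fun i => (g i).left) hglue
  let Go : S ⟶ M X Z := Over.homMk G (𝒰.hom_ext _ _ fun i => by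
    rw [← Category.assoc, show 𝒰.f i ≫ G = (g i).left from Scheme.Cover.ι_glueMorphisms 𝒰 _ hglue i]
    exact Over.w (g i))
  have hGo : ∀ i, j i ≫ Go = g i := fun i => Over.OverMorphism.ext (Scheme.Cover.ι_glueMorphisms 𝒰 _ hglue i)
  refine ⟨Go, ?_, fun g' h' => huniq S g' Go (h'.trans ?_)⟩
  all_goals
    apply Over.OverMorphism.ext
    refine Scheme.Cover.hom_ext (Precoverage.ZeroHypercover.pullback₁ (snd X S).left 𝒰) _ _ fun i => ?_
  all_goals
    have hsq : IsPullback (snd X (U i)).left (X ◁ j i).left (j i).left (snd X S).left :=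
      GITQuot.isPullback_whiskerLeft (j i) X |>.flip
    have key := congrArg CommaMorphism.left (hg i)
    rw [← hGo i, MonoidalCategory.whiskerLeft_comp, Category.assoc] at key
    simp only [Over.comp_left] at key
    have e : pullback.fst (snd X S).left (𝒰.f i) = (hsq.flip.isoPullback).inv ≫ (X ◁ j i).left :=
      (hsq.flip.isoPullback_inv_fst).symm
    show pullback.fst (snd X S).left (𝒰.f i) ≫ _ = pullback.fst (snd X S).left (𝒰.f i) ≫ _
    rw [e]
    refine (Category.assoc _ _ _).trans (Eq.trans ?_ (Category.assoc _ _ _).symm)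
    simp only [Over.comp_left]
    rw [key]

end Groth.Agent.HomSch19
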